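import Cfsg.Agent.Lib.SzS.L0
import Cfsg.Agent.Lib.Transfer.Extremal
import Cfsg.Agent.Lib.Transfer.Criteria

/-!
# A standard subgroup `Sz(8)`: the case `|R| = 2`
-/

set_option autoImplicit false
set_option linter.unusedSectionVars false

namespace Cfsg.Lib.SzS

open Subgroup Cfsg.Lib.RI

variable {G : Type*} [Group G] [Finite G] {L R Q T Y : Subgroup G} {u : F8 → F8 → G} {d g k l n o s t w x y : G} {b c e μ ν : F8}
  {S : AddSubgroup F8} {ρ : S → G} {v : F8 → G} {γ γ' : S × F8 × F8 → S × F8 × F8} {φ φ' : F8 → F8} {p p' : S × F8 × F8}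

theorem thompson [IsSimpleGroup G] (hG : ¬ IsMulCommutative G) (T : Sylow 2 G)
    (hY : ∀ x ∈ (T : Subgroup G), ∀ y ∈ (T : Subgroup G), x ∉ Y → y ∉ Y → x * y ∈ Y) (t2 : t * t = 1) :
    ∃ g, cj g t ∈ Y ∧ cj g t ∈ (T : Subgroup G) := by
  by_cases e : (T : Subgroup G) ≤ Y
  · obtain ⟨g, a⟩ := Transfer.exists_conj_le_sylow T (pg_zp (two_of_sq t2))
    have := a (mem_map_of_mem _ (mem_zpowers t))
    exact ⟨g, e this, this⟩
  obtain ⟨x, a, b⟩ := SetLike.not_le_iff_exists.1 e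
  have i : (Y.subgroupOf T).index = 2 := index_eq_two_iff.2 ⟨⟨x, a⟩, fun y => by
    by_cases f : (y : G) ∈ Y
    exacts [.inr ⟨f, fun k => b ((mul_mem_cancel_left f).1 k)⟩, .inl ⟨hY _ y.2 _ a f b, f⟩]⟩
  have := normal_of_index_eq_two i
  obtain ⟨g, a, b, -⟩ := Transfer.exists_conj_mem_and_conj_le T (T := Y) (isCyclic_of_prime_card i) t2
    (by rw [Transfer.pResidual_eq_top_of_simple hG, top_sup_eq]; trivial) (C := ⊥) IsPGroup.of_bot bot_le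
  exact ⟨g, a, b⟩

/-- the non-zero element of `S` -/
abbrev one (hS : ∀ x, x ∈ S ↔ x = 0 ∨ x = 1) : S := ⟨1, (hS 1).2 (.inr rfl)⟩

namespace CW

variable (h : CW L R u d g S ρ v c e)
include h

local notation "𝐇" => normalizer (h.A : Set G)
local notation "𝐌" => normalizer (h.W : Set G)

variable {h} in
theorem Act.mul (a : h.Act s γ φ) (a' : h.Act t γ' φ') : h.Act (s * t) (γ ∘ γ') (φ ∘ φ') :=
  ⟨fun p => have ⟨i, e⟩ := a'.el p; by rw [← cj_cj, e]; exact a.el' _ i, fun b => by rw [← cj_cj, a'.z, a.z]; rfl⟩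
variable {h} in
theorem Act.uniq (a : h.Act t γ φ) (a' : h.Act t γ' φ') (p : S × F8 × F8) : γ p = γ' p :=
  have ⟨_, e⟩ := a.el p
  have ⟨_, e'⟩ := a'.el p
  (h.el_inj (e.symm.trans e')).1
variable {h} in
theorem Act.zero (a : h.Act t γ φ) : γ 0 = 0 := by simpa using a.add 0 0

theorem actl (n : μ ≠ 0) : ∃ k ∈ L, h.Act k (fun p => (p.1, μ * (μ * (μ * p.2.1)), μ * p.2.2)) (μ * ·) := by
  obtain ⟨i, a, rfl⟩ := (by decide : ∀ x : F8, x ≠ 0 → ∃ i : Fin 7, (∀ y, x * (x * (x * y)) = ω ^ (i : ℕ) * y) ∧ x = (ω ^ 5) ^ (i : ℕ)) μ n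
  have k : ∀ (i : ℕ) x, ∃ b, cj (d ^ i) (v x) = v ((ω ^ 5) ^ i * x) * u 0 b := fun i x => by
    induction i with
    | zero => exact ⟨0, by simp [h.u0]⟩
    | succ i e =>
      obtain ⟨b, e⟩ := e
      obtain ⟨j, f⟩ := h.vd ((ω ^ 5) ^ i * x)
      exact ⟨_, by rw [pow_succ', ← cj_cj, e, cj_mul, f, h.dc, mul_zero, mul_assoc, h.zz, ← mul_assoc, ← pow_succ']⟩
  refine ⟨_, pow_mem h.dm i, fun p => (k i p.2.2).imp fun b e => ?_, fun b => by rw [h.dp, mul_zero]⟩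
  rw [el, cj_mul, cj_mul, e, h.dr, h.dp, a, mul_zero, el, ← mul_assoc]

/-- the preimage of a subgroup of `W / Z` -/
def sub (X : AddSubgroup (S × F8 × F8)) : Subgroup G where
  carrier := {w | ∃ p ∈ X, ∃ b, w = h.el p * u 0 b}
  mul_mem' := by
    rintro _ _ ⟨p, m, b, rfl⟩ ⟨p', m', b', rfl⟩
    obtain ⟨i, e⟩ := h.el_mul p p'
    exact ⟨_, add_mem m m', _, by rw [(h.cZ (h.elW _) b).symm.mul_mul_mul_comm, e, h.zz, mul_assoc, h.zz]⟩
  one_mem' := ⟨0, zero_mem _, (h.el0 0 0 0).imp fun _ e => h.one3.symm.trans e⟩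
  inv_mem' := by
    rintro _ ⟨p, m, b, rfl⟩
    exact ⟨p, m, _, inv_eq_of_mul_eq_one_right (by rw [← h.zz, ← mul_assoc (h.el p), ← mul_assoc, h.el_sq, h.z2])⟩

/-- the subgroup of index `|R|` -/
def M : Subgroup G := h.sub (.prod ⊥ ⊤)
/-- the subgroup `[W, R]` -/
def E : Subgroup G := h.sub (.prod ⊥ (.prod ⊥ ⊤))

theorem mM (y x b : F8) : h.el (0, y, x) * u 0 b ∈ h.M := ⟨(0, y, x), ⟨rfl, trivial⟩, b, rfl⟩
theorem mE (x b : F8) : h.el (0, 0, x) * u 0 b ∈ h.E := ⟨(0, 0, x), ⟨rfl, rfl, trivial⟩, b, rfl⟩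
theorem exM (m : w ∈ h.M) : ∃ y x b, w = h.el (0, y, x) * u 0 b := by
  obtain ⟨⟨r, y, x⟩, ⟨rfl, -⟩, b, e⟩ := m
  exact ⟨y, x, b, e⟩
theorem exE (m : w ∈ h.E) : ∃ x b, w = h.el (0, 0, x) * u 0 b := by
  obtain ⟨⟨r, y, x⟩, ⟨rfl, rfl, -⟩, b, e⟩ := m
  exact ⟨x, b, e⟩
theorem MW : h.M ≤ h.W := fun _ ⟨p, _, b, e⟩ => e ▸ mul_mem (h.elW p) (h.zW b)
theorem EM : h.E ≤ h.M := fun _ ⟨p, m, e⟩ => ⟨p, ⟨m.1, trivial⟩, e⟩
theorem elz (b : F8) : ∃ i, u 0 b = h.el 0 * u 0 i := (h.el0 0 0 b).imp fun _ e => by rwa [h.r0, one_mul] at e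
theorem zE (b : F8) : u 0 b ∈ h.E := ⟨0, zero_mem _, h.elz b⟩

variable {h} in
theorem Act.jv (a : h.Act t γ φ) : Jv c e (γ p) (γ p') (φ b) ↔ Jv c e p p' b := by
  rw [Jv, a.surj.forall]
  simp only [Jv, a.bt, a.q, a.zinj.eq_iff, a.zinj.eq_iff' a.z0]
variable {h} in
theorem Act.ab (a : h.Act t γ φ) (f : AB c e p p') : AB c e (γ p) (γ p') := by
  have sj := Finite.injective_iff_surjective.1 a.zinj
  refine fun n => sj.forall.2 fun b i j => sj.forall.2 fun b' i' j' => congrArg φ (f (fun k => n (sj.forall.2 fun b => a.jv.2 (k b)))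
    b ?_ (a.jv.1 j) b' ?_ (a.jv.1 j')) <;> rintro rfl
  exacts [i a.z0, i' a.z0]

variable (hS : ∀ x, x ∈ S ↔ x = 0 ∨ x = 1)
include hS

local notation "𝐭" => ((one hS, 0, 0) : S × F8 × F8)

omit h in
theorem eq_one {r : S} (n : r ≠ 0) : r = one hS := Subtype.ext (((hS r).1 r.2).resolve_left fun e => n (Subtype.ext e))
omit h in
theorem one0 : one hS ≠ 0 := fun e => one_ne_zero (congrArg Subtype.val e)

variable {h} in
theorem Act.fixH (a : h.Act n γ φ) (m : n ∈ 𝐇) : γ 𝐭 = 𝐭 := by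
  obtain ⟨i, f⟩ := a.rho (one hS) 0
  obtain ⟨r, b, k⟩ := (cj_norm m).2 (h.mA (one hS) 0)
  obtain ⟨j, k'⟩ := h.el0 r 0 b
  have := (h.el_inj (f.symm.trans (k.trans k'))).1
  rw [this, eq_one hS (r := r)]
  rintro rfl
  exact one0 hS (congrArg (·.1) (a.inj (this.trans a.zero.symm)))

variable {h} in
theorem Act.cd (a : h.Act n γ φ) (m : n ∉ 𝐇) : Cd c e (γ 𝐭) := by
  have sj := Finite.injective_iff_surjective.1 a.zinj
  refine ⟨a.cand m (one0 hS), (a.q _).trans (by simp [qq, a.z0]), sj.forall.2 fun b f => f (γ (0, 0, b)) ((a.bt _ _).trans (by simp [bb])),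
    sj.forall.2 fun b => a.jv.2 fun f => ?_, fun f => ?_⟩
  · obtain ⟨y, rfl⟩ := root5' b
    exact f (0, y, 0) (by simp [bb, qq])
  · have := f (γ (0, 1, 0)) ((a.bt _ _).trans (by simp [bb, a.z0])) (γ (0, ω, 0)) ((a.bt _ _).trans (by simp [bb, a.z0]))
    rw [a.bt, a.zinj.eq_iff' a.z0] at this
    exact absurd (by simpa [bb] using this) (by decide : 1 ^ 4 * ω + 1 * ω ^ 4 ≠ 0)

variable {h} in
theorem Act.good (a : h.Act n γ φ) (m : n ∉ 𝐇) : ((γ 𝐭).1 : F8) = 1 ∧ e = 0 ∧ (c = 0 ∨ c = 1) :=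
  (ck9 hS c e _ (a.cd hS m)).2 fun l l0 l1 => by
    obtain ⟨k, -, b⟩ := h.actl l0
    obtain ⟨γ', φ', a'⟩ := h.exAct (mul_mem (inv_mem a.norm) (mul_mem b.norm a.norm))
    have f := (a.mul a').uniq (by rw [mul_inv_cancel_left]; exact b.mul a) 𝐭
    have := a.ab (ck9 hS c e _ (a'.cd hS fun m' => ?_)).1
    · rwa [show γ (γ' _) = _ from f] at this
    rw [Function.comp, a'.fixH hS m'] at f
    exact l1 (mul_right_cancel₀ (a.cand m (one0 hS)) ((congrArg (·.2.2) f).symm.trans (one_mul _).symm))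

variable {h} in
theorem Act.tt (a : h.Act n γ φ) (b : F8) : TT L (h.el (γ 𝐭) * u 0 b) := by
  obtain ⟨i, f⟩ := a.rho (one hS) 0
  obtain ⟨j, k⟩ := Finite.injective_iff_surjective.1 a.zinj (i + b)
  have := (h.TA (one0 hS) j).cj n
  rwa [← zero_add j, ← h.zz, ← mul_assoc, cj_mul, f, a.z, k, mul_assoc, h.zz, ← add_assoc, a2, zero_add] at this

theorem TTr (t : TT L (h.el p * u 0 b)) : p.1 = one hS := by
  obtain ⟨n, m, r, i, f⟩ := h.TW (mul_mem (h.elW p) (h.zW b)) t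
  obtain rfl := eq_one hS (r := r) (by rintro rfl; exact h.nz i (by simpa [f, h.r0] using t.cj n))
  obtain ⟨γ, φ, a⟩ := h.exAct (inv_mem m)
  obtain ⟨j, k⟩ := a.rho (one hS) i
  rw [← f, cj_inv_cj] at k
  rw [(h.el_inj k).1]
  by_cases e : n⁻¹ ∈ 𝐇
  exacts [by rw [a.fixH hS e], Subtype.ext (a.good hS e).1]

theorem MT (m : x ∈ h.M) : ¬ TT L x := fun t => by
  obtain ⟨y, x, b, rfl⟩ := h.exM m
  exact one0 hS (h.TTr hS t).symm

theorem idxM (m : x ∈ h.W) (m' : y ∈ h.W) (n : x ∉ h.M) (n' : y ∉ h.M) : x * y ∈ h.M := by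
  obtain ⟨p, b, rfl⟩ := h.exEl m
  obtain ⟨p', b', rfl⟩ := h.exEl m'
  obtain ⟨i, e⟩ := h.el_mul p p'
  refine ⟨p + p', ⟨?_, trivial⟩, _, by rw [(h.cZ (h.elW _) b).symm.mul_mul_mul_comm, e, h.zz, mul_assoc, h.zz]⟩
  rw [Prod.fst_add, eq_one hS (r := p.1) fun e => n ⟨p, ⟨e, trivial⟩, b, rfl⟩, eq_one hS (r := p'.1) fun e => n' ⟨p', ⟨e, trivial⟩, b', rfl⟩]
  exact h.s2 _

theorem TR : TT L (ρ (one hS)) := by simpa [h.u0] using h.TA (one0 hS) 0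

theorem caseA [IsSimpleGroup G] (hG : ¬ IsMulCommutative G) (f : 𝐌 ≤ 𝐇) : False := by
  obtain ⟨T, hT⟩ := h.W2.exists_le_sylow
  have le : (T : Subgroup G) ≤ h.W := sylow_le T fun y m k => h.twoW (f (norm_of fun a ma => k a ma (hT ma))) (two_of T.2 m)
  obtain ⟨g, a, -⟩ := thompson hG T (Y := h.M) (fun x a y b => h.idxM hS (le a) (le b)) (h.TR hS).1
  exact h.MT hS a ((h.TR hS).cj g)

end CW

end Cfsg.Lib.SzS
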