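import Cfsg.Agent.Lib.SzS.J0

/-!
# A standard subgroup `Sz(8)`: computations for `|R| = 2`
-/

set_option autoImplicit false

namespace Cfsg.Lib.SzS

variable {S : AddSubgroup F8}

/-- conjunction over `W / Z` -/
def alV (f : ℕ → ℕ → ℕ → Bool) : Bool := (al fun y => al fun x => f 0 y x) && al fun y => al fun x => f 1 y x
/-- fast `Jv` -/
def jN (c e r y x r' y' x' b : ℕ) : Bool := !alV fun i j k =>
  !((bN e r y x i j k).beq 0 && ((bN e r' y' x' i j k).beq 0 && (qN c e i j k).beq b))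
/-- fast `AB` -/
def abN (c e r y x r' y' x' : ℕ) : Bool := im (!al fun b => jN c e r y x r' y' x' b) <| al fun b => im (!b.beq 0) <|
  im (jN c e r y x r' y' x' b) <| al fun b' => im (!b'.beq 0) <| im (jN c e r y x r' y' x' b') (b.beq b')
/-- fast `Cd` -/
def cdN (c e r y x : ℕ) : Bool := !x.beq 0 && ((qN c e r y x).beq 0 && ((al fun b => !alV fun i j k => !(bN e r y x i j k).beq b) &&
  ((al fun b => jN c e r y x r y x b) && !alV fun i j k => im ((bN e r y x i j k).beq 0) <| alV fun i' j' k' =>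
    im ((bN e r y x i' j' k').beq 0) ((bN e i j k i' j' k').beq 0))))

/-- the squares of the common centralizer -/
def Jv (c e : F8) (p p' : S × F8 × F8) (b : F8) : Prop := ¬ ∀ w : S × F8 × F8,
  ¬ (bb e p.1 p.2.1 p.2.2 w.1 w.2.1 w.2.2 = 0 ∧ bb e p'.1 p'.2.1 p'.2.2 w.1 w.2.1 w.2.2 = 0 ∧ qq c e w.1 w.2.1 w.2.2 = b)
/-- an invariant of pairs -/
def AB (c e : F8) (p p' : S × F8 × F8) : Prop := (¬ ∀ b, Jv c e p p' b) → ∀ b, ¬ b = 0 → Jv c e p p' b → ∀ b', ¬ b' = 0 → Jv c e p p' b' → b = b'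
/-- the candidates for an image of `R` -/
def Cd (c e : F8) (p : S × F8 × F8) : Prop := ¬ p.2.2 = 0 ∧ qq c e p.1 p.2.1 p.2.2 = 0 ∧
  (∀ b, ¬ ∀ w : S × F8 × F8, ¬ bb e p.1 p.2.1 p.2.2 w.1 w.2.1 w.2.2 = b) ∧ (∀ b, Jv c e p p b) ∧ ¬ ∀ w : S × F8 × F8,
    bb e p.1 p.2.1 p.2.2 w.1 w.2.1 w.2.2 = 0 → ∀ w' : S × F8 × F8, bb e p.1 p.2.1 p.2.2 w'.1 w'.2.1 w'.2.2 = 0 →
      bb e w.1 w.2.1 w.2.2 w'.1 w'.2.1 w'.2.2 = 0

variable (hS : ∀ x, x ∈ S ↔ x = 0 ∨ x = 1)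
include hS

theorem alV_iff {f : ℕ → ℕ → ℕ → Bool} : alV f = true ↔ ∀ p : S × F8 × F8, f p.1.1.1 p.2.1.1 p.2.2.1 = true := by
  simp only [alV, Bool.and_eq_true, al_iff]
  refine ⟨fun h ⟨⟨r, m⟩, y, x⟩ => ?_, fun h => ⟨fun y x => h (0, y, x), fun y x => h (⟨1, (hS 1).2 (.inr rfl)⟩, y, x)⟩⟩
  obtain rfl | rfl := (hS r).1 m
  exacts [h.1 y x, h.2 y x]

theorem jN_iff (c e : F8) (p p' : S × F8 × F8) (b : F8) :
    jN c.1 e.1 p.1.1.1 p.2.1.1 p.2.2.1 p'.1.1.1 p'.2.1.1 p'.2.2.1 b.1 = true ↔ Jv c e p p' b := by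
  simp only [jN, Jv, alV_iff hS, qN_val, bN_val, beq_val, beq_0, Bool.and_eq_true, Bool.not_eq_true', ← Bool.not_eq_true]
theorem abN_iff (c e : F8) (p p' : S × F8 × F8) :
    abN c.1 e.1 p.1.1.1 p.2.1.1 p.2.2.1 p'.1.1.1 p'.2.1.1 p'.2.2.1 = true ↔ AB c e p p' := by
  simp only [abN, AB, al_iff, im_iff, jN_iff hS, beq_val, beq_0, Bool.not_eq_true', ← Bool.not_eq_true]
theorem cdN_iff (c e : F8) (p : S × F8 × F8) : cdN c.1 e.1 p.1.1.1 p.2.1.1 p.2.2.1 = true ↔ Cd c e p := by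
  simp only [cdN, Cd, alV_iff hS, al_iff, im_iff, jN_iff hS, qN_val, bN_val, beq_val, beq_0, Bool.and_eq_true, Bool.not_eq_true',
    ← Bool.not_eq_true]

attribute [local irreducible] abN in
theorem ck9 (c e : F8) (p : S × F8 × F8) (h : Cd c e p) : AB c e (⟨1, (hS 1).2 (.inr rfl)⟩, 0, 0) p ∧ ((∀ l, ¬ l = 0 → ¬ l = 1 →
    AB c e p (p.1, l * (l * (l * p.2.1)), l * p.2.2)) → (p.1 : F8) = 1 ∧ e = 0 ∧ (c = 0 ∨ c = 1)) := by
  have := (by decide +kernel : (al fun c => al fun e => alV fun r y x => im (cdN c e r y x) <| abN c e 1 0 0 r y x &&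
    im (al fun l => im (!l.beq 0) <| im (!l.beq 1) <| abN c e r y x r (mN l (mN l (mN l y))) (mN l x))
      (r.beq 1 && (e.beq 0 && (c.beq 0 || c.beq 1)))) = true)
  simp only [al_iff, alV_iff hS, im_iff, cdN_iff hS, mN_val, beq_0, beq_1, Bool.and_eq_true, Bool.or_eq_true, Bool.not_eq_true',
    ← Bool.not_eq_true] at this
  exact ⟨(abN_iff hS c e (⟨1, _⟩, 0, 0) p).1 (this c e p h).1, fun f => (this c e p h).2 fun l a b => (abN_iff hS c e p (p.1, l * (l * (l * p.2.1)), l * p.2.2)).2 (f l a b)⟩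

end Cfsg.Lib.SzS
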